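import Groth.Agent.S1916
import Groth.Agent.CycLib.Push
import Groth.Agent.CycLib.LFT
import Groth.Agent.CycLib.Finite
import Groth.Agent.QCoh.Support
import Mathlib.RingTheory.LocalRing.Length

/-! The cycle of the direct image of a coherent module along a proper morphism. -/

noncomputable section

universe u

open AlgebraicGeometry CategoryTheory CategoryTheory.Limits TopologicalSpace IsLocalRing Opposite

set_option backward.isDefEq.respectTransparency false
set_option backward.isDefEq.respectTransparency.types false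
set_option linter.style.haveILetI false
set_option maxHeartbeats 1000000

namespace Groth.Agent.CycLib.PushSheaf

open Groth.Agent

variable {X Y : Scheme.{u}}

theorem eq_of_germs {M : X.Modules} {U : X.Opens} (s t : Γ(M, U))
    (h : ∀ z (hz : z ∈ U), M.presheaf.germ U z hz s = M.presheaf.germ U z hz t) : s = t :=
  TopCat.Presheaf.section_ext ((SheafOfModules.toSheaf X.ringCatSheaf).obj M) U s t h

/-- An open meeting a closed set only in the closure of one of its maximal points. -/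
theorem exists_open_generic {C : Set X} (hC : IsClosed C)
    (hlf : LocallyFinite (fun Z : irreducibleComponents C => ((↑) '' (Z : Set C) : Set X)))
    {x : X} (hx : x ∈ C) (hgen : ∀ z ∈ C, z ⤳ x → z = x) :
    ∃ O : X.Opens, x ∈ O ∧ ∀ z ∈ O, z ∈ C → x ⤳ z := by
  let S := {Z : irreducibleComponents C // (⟨x, hx⟩ : C) ∉ (Z : Set C)}
  have hcl : IsClosed (⋃ Z : S, ((↑) '' ((Z.1 : Set C)) : Set X)) :=
    (hlf.comp_injective Subtype.val_injective).isClosed_iUnion fun Z =>
      hC.isClosedEmbedding_subtypeVal.isClosedMap _ (isClosed_of_mem_irreducibleComponents _ Z.1.2)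
  refine ⟨⟨_, hcl.isOpen_compl⟩, ?_, fun z hz hzC => ?_⟩
  · rintro ⟨_, ⟨Z, rfl⟩, w, hw, hwx⟩
    exact Z.2 ((Subtype.ext hwx : w = ⟨x, hx⟩) ▸ hw)
  · have hxZ : (⟨x, hx⟩ : C) ∈ irreducibleComponent (⟨z, hzC⟩ : C) := by
      by_contra h
      exact hz (Set.mem_iUnion.2 ⟨⟨⟨_, irreducibleComponent_mem_irreducibleComponents _⟩, h⟩,
        ⟨z, hzC⟩, mem_irreducibleComponent, rfl⟩)
    have hirr : IsIrreducible (((↑) : C → X) '' irreducibleComponent (⟨z, hzC⟩ : C)) :=
      isIrreducible_irreducibleComponent.image _ continuous_subtype_val.continuousOn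
    obtain ⟨η, hη⟩ := QuasiSober.sober hirr
      (hC.isClosedEmbedding_subtypeVal.isClosedMap _ isClosed_irreducibleComponent)
    obtain ⟨w, -, hwη⟩ := hη.mem
    have hηx : η = x := hgen η (hwη ▸ w.2) (hη.specializes ⟨_, hxZ, rfl⟩)
    rw [← hηx]
    exact hη.specializes ⟨_, mem_irreducibleComponent, rfl⟩

theorem toNat_sum {ι : Type*} (s : Finset ι) (g : ι → ℕ∞) (h : ∀ i ∈ s, g i ≠ ⊤) :
    (∑ i ∈ s, g i).toNat = ∑ i ∈ s, (g i).toNat := by
  classical
  induction s using Finset.induction with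
  | empty => simp
  | insert a s ha ih =>
    have hs : ∑ i ∈ s, g i ≠ ⊤ := by
      have hh : ∀ i ∈ s, g i ≠ ⊤ := fun i hi => h i (Finset.mem_insert_of_mem hi)
      clear ih h ha
      induction s using Finset.induction with
      | empty => simp
      | insert b t hb iht =>
        rw [Finset.sum_insert hb]
        exact WithTop.add_ne_top.2 ⟨hh b (Finset.mem_insert_self b t), iht fun i hi => hh i (Finset.mem_insert_of_mem hi)⟩
    rw [Finset.sum_insert ha, Finset.sum_insert ha, ENat.toNat_add (h a (Finset.mem_insert_self a s)) hs,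
      ih fun i hi => h i (Finset.mem_insert_of_mem hi)]

variable (f : X ⟶ Y) (F : X.Modules) (y : Y)

/-- The map of local rings at a point over `y`. -/
def stalkHom {x : X} (h : f x = y) : Y.presheaf.stalk y →+* X.presheaf.stalk x :=
  (Y.presheaf.stalkSpecializes (specializes_of_eq h) ≫ f.stalkMap x).hom

/-- The map from the stalk of the direct image. -/
def stalkProj {x : X} (h : f x = y) : ((Coh.push f).obj F).presheaf.stalk y ⟶ F.presheaf.stalk x :=
  ((Coh.push f).obj F).presheaf.stalkSpecializes (specializes_of_eq h) ≫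
    TopCat.Presheaf.stalkPushforward Ab.{u} f.base F.presheaf x

theorem stalkHom_germ {x : X} (h : f x = y) {U : Y.Opens} (hU : y ∈ U) (b : Γ(Y, U)) :
    stalkHom f y h (Y.presheaf.germ U y hU b) = X.presheaf.germ (f ⁻¹ᵁ U) x (show f x ∈ U from h ▸ hU) (f.app U b) := by
  subst h
  show (f.stalkMap x).hom ((Y.presheaf.stalkSpecializes (specializes_of_eq rfl)).hom (Y.presheaf.germ U _ hU b)) = _
  rw [TopCat.Presheaf.stalkSpecializes_refl]
  exact Scheme.Hom.germ_stalkMap_apply f U x hU b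

theorem stalkProj_germ {x : X} (h : f x = y) {U : Y.Opens} (hU : y ∈ U) (v : Γ(F, f ⁻¹ᵁ U)) :
    stalkProj f F y h (((Coh.push f).obj F).presheaf.germ U y hU v) =
      F.presheaf.germ (f ⁻¹ᵁ U) x (show f x ∈ U from h ▸ hU) v := by
  subst h
  unfold stalkProj
  rw [TopCat.Presheaf.stalkSpecializes_refl, Category.id_comp]
  exact congrArg (fun φ => φ v) (TopCat.Presheaf.stalkPushforward_germ Ab.{u} f.base F.presheaf U x hU)

theorem stalkProj_smul {x : X} (h : f x = y) (a : Y.presheaf.stalk y)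
    (m : ((Coh.push f).obj F).presheaf.stalk y) :
    stalkProj f F y h (a • m) = stalkHom f y h a • stalkProj f F y h m := by
  obtain ⟨U, hU, b, rfl⟩ := Y.presheaf.exists_germ_eq (x := y) a
  obtain ⟨V, hV, v, rfl⟩ := ((Coh.push f).obj F).presheaf.germ_exist m
  have hW : y ∈ U ⊓ V := ⟨hU, hV⟩
  rw [← Y.presheaf.germ_res_apply (homOfLE inf_le_left : U ⊓ V ⟶ U) y hW b,
    ← ((Coh.push f).obj F).presheaf.germ_res_apply (homOfLE inf_le_right : U ⊓ V ⟶ V) y hW v]
  generalize Y.presheaf.map (homOfLE inf_le_left : U ⊓ V ⟶ U).op b = b'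
  generalize ((Coh.push f).obj F).presheaf.map (homOfLE inf_le_right : U ⊓ V ⟶ V).op v = v'
  rw [← QCoh.germ_smul' ((Coh.push f).obj F) hW, stalkProj_germ, stalkProj_germ, stalkHom_germ]
  exact QCoh.germ_smul' F (show x ∈ f ⁻¹ᵁ (U ⊓ V) from show f x ∈ U ⊓ V from h ▸ hW) (f.app _ b') v'

/-- Stalks of a direct image along a closed map, when the support meets the fibre in finitely many points,
none a specialisation of another point of the support. -/
theorem bijective_prod (hf : IsClosedMap f.base) {C : Set X} (hC : IsClosed C)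
    (hzero : ∀ z ∉ C, Subsingleton (F.presheaf.stalk z)) (T : Finset X)
    (hT : ∀ x, x ∈ T ↔ f x = y ∧ x ∈ C)
    (O : ∀ x : T, X.Opens) (hxO : ∀ x : T, (x : X) ∈ O x) (hO : ∀ (x : T) z, z ∈ O x → z ∈ C → (x : X) ⤳ z)
    (hns : ∀ x x' : T, (x : X) ⤳ (x' : X) → x = x') :
    Function.Bijective (fun (m : ((Coh.push f).obj F).presheaf.stalk y) (x : T) =>
      stalkProj f F y ((hT x).1 x.2).1 m) := by
  classical
  have key : ∀ P : X.Opens, (∀ z, f z = y → z ∈ P) → ∃ V : Y.Opens, y ∈ V ∧ f ⁻¹ᵁ V ≤ P := fun P hP => by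
    refine ⟨⟨(f.base '' (P : Set X)ᶜ)ᶜ, (hf _ P.2.isClosed_compl).isOpen_compl⟩, ?_, ?_⟩
    · rintro ⟨z, hz, he⟩
      exact hz (hP z he)
    · intro z hz
      by_contra h
      exact hz ⟨z, h, rfl⟩
  constructor
  · intro a b hab
    obtain ⟨U, hU, s, rfl⟩ := ((Coh.push f).obj F).presheaf.germ_exist a
    obtain ⟨U', hU', s', rfl⟩ := ((Coh.push f).obj F).presheaf.germ_exist b
    let W : Y.Opens := U ⊓ U'
    let t : Γ(F, f ⁻¹ᵁ W) := F.presheaf.map (homOfLE (fun z hz => hz.1 : f ⁻¹ᵁ W ≤ f ⁻¹ᵁ U)).op s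
    let t' : Γ(F, f ⁻¹ᵁ W) := F.presheaf.map (homOfLE (fun z hz => hz.2 : f ⁻¹ᵁ W ≤ f ⁻¹ᵁ U')).op s'
    have hgz : ∀ z (hz : f z = y),
        F.presheaf.germ (f ⁻¹ᵁ W) z (show f z ∈ W from hz ▸ ⟨hU, hU'⟩) t = F.presheaf.germ (f ⁻¹ᵁ W) z (show f z ∈ W from hz ▸ ⟨hU, hU'⟩) t' := by
      intro z hz
      by_cases hzC : z ∈ C
      · have h1 := congrFun hab ⟨z, (hT z).2 ⟨hz, hzC⟩⟩
        simp only [stalkProj_germ] at h1
        exact (TopCat.Presheaf.germ_res_apply _ _ _ _ _).trans (h1.trans (TopCat.Presheaf.germ_res_apply _ _ _ _ _).symm)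
      · exact (hzero z hzC).elim _ _
    let P : X.Opens := ⨆ (P' : X.Opens) (hP : P' ≤ f ⁻¹ᵁ W) (_ : F.presheaf.map (homOfLE hP).op t = F.presheaf.map (homOfLE hP).op t'), P'
    obtain ⟨V, hV, hVP⟩ := key P fun z hz => by
      obtain ⟨P', hzP, i, i', he⟩ := F.presheaf.germ_eq z _ _ t t' (hgz z hz)
      exact Opens.mem_iSup.2 ⟨P', Opens.mem_iSup.2 ⟨i.le, Opens.mem_iSup.2 ⟨he, hzP⟩⟩⟩
    have hW : y ∈ W ⊓ V := ⟨⟨hU, hU'⟩, hV⟩
    rw [← ((Coh.push f).obj F).presheaf.germ_res_apply (homOfLE (inf_le_left.trans inf_le_left) : W ⊓ V ⟶ U) y hW s,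
      ← ((Coh.push f).obj F).presheaf.germ_res_apply (homOfLE (inf_le_left.trans inf_le_right) : W ⊓ V ⟶ U') y hW s']
    congr 1
    refine eq_of_germs (M := F) (U := f ⁻¹ᵁ (W ⊓ V)) _ _ fun z hz => ?_
    obtain ⟨P', h1⟩ := Opens.mem_iSup.1 (hVP hz.2)
    obtain ⟨hP, h2⟩ := Opens.mem_iSup.1 h1
    obtain ⟨he, hzP⟩ := Opens.mem_iSup.1 h2
    have h3 := congrArg (F.presheaf.germ P' z hzP) he
    rw [TopCat.Presheaf.germ_res_apply, TopCat.Presheaf.germ_res_apply] at h3
    refine (TopCat.Presheaf.germ_res_apply F.presheaf (homOfLE (fun w hw => hw.1.1 : f ⁻¹ᵁ (W ⊓ V) ≤ f ⁻¹ᵁ U)) z hz s).trans ?_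
    refine Eq.trans ?_ (TopCat.Presheaf.germ_res_apply F.presheaf (homOfLE (fun w hw => hw.1.2 : f ⁻¹ᵁ (W ⊓ V) ≤ f ⁻¹ᵁ U')) z hz s').symm
    have h4 := h3
    simp only [t, t', TopCat.Presheaf.germ_res_apply] at h4
    exact h4
  · intro g
    choose U hxU s hs using fun x : T => F.presheaf.germ_exist (g x)
    let W : T → X.Opens := fun x => U x ⊓ O x ⊓
      ⟨(⋃ x' ∈ (Set.univ \ {x} : Set T), closure {(x' : X)})ᶜ,
        (Set.toFinite _ |>.isClosed_biUnion fun _ _ => isClosed_closure).isOpen_compl⟩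
    have hxW : ∀ x : T, (x : X) ∈ W x := fun x => ⟨⟨hxU x, hxO x⟩, fun hmem => by
      obtain ⟨x', hx', hmem⟩ := Set.mem_iUnion₂.1 hmem
      exact hx'.2 (hns x' x (specializes_iff_mem_closure.2 hmem))⟩
    have hsep : ∀ x x' : T, x ≠ x' → ∀ z ∈ W x, z ∈ W x' → z ∉ C := fun x x' hne z hz hz' hzC =>
      hz'.2 (Set.mem_biUnion (show x ∈ Set.univ \ {x'} from ⟨trivial, hne⟩)
        (specializes_iff_mem_closure.1 (hO x z hz.1.2 hzC)))
    let cover : Option T → X.Opens := fun o => o.elim ⟨Cᶜ, hC.isOpen_compl⟩ W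
    let sec : ∀ o, Γ(F, cover o) := fun o => match o with
      | none => 0
      | some x => F.presheaf.map (homOfLE (inf_le_left.trans inf_le_left : W x ≤ U x)).op (s x)
    have hcompat : TopCat.Presheaf.IsCompatible (((SheafOfModules.toSheaf X.ringCatSheaf).obj F).obj) cover sec := by
      intro o o'
      refine eq_of_germs (M := F) (U := cover o ⊓ cover o') _ _ fun z hz => ?_
      by_cases hzC : z ∈ C
      · rcases o with _ | x
        · exact (hz.1 hzC).elim
        rcases o' with _ | x'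
        · exact (hz.2 hzC).elim
        by_cases hne : x = x'
        · subst hne; rfl
        · exact (hsep x x' hne z hz.1 hz.2 hzC).elim
      · exact (hzero z hzC).elim _ _
    obtain ⟨gl, hgl, -⟩ := TopCat.Sheaf.existsUnique_gluing ((SheafOfModules.toSheaf X.ringCatSheaf).obj F) cover sec hcompat
    obtain ⟨V, hV, hVP⟩ := key (iSup cover) fun z hz => by
      by_cases hzC : z ∈ C
      · exact Opens.mem_iSup.2 ⟨some ⟨z, (hT z).2 ⟨hz, hzC⟩⟩, hxW _⟩
      · exact Opens.mem_iSup.2 ⟨none, hzC⟩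
    refine ⟨((Coh.push f).obj F).presheaf.germ V y hV (F.presheaf.map (homOfLE hVP).op gl), funext fun x => ?_⟩
    show stalkProj f F y _ _ = g x
    rw [stalkProj_germ]
    refine (TopCat.Presheaf.germ_res_apply _ _ _ _ _).trans ?_
    rw [← hs x]
    refine (TopCat.Presheaf.germ_res_apply F.presheaf (Opens.leSupr cover (some x)) _ (hxW x) gl).symm.trans ?_
    exact (congrArg (F.presheaf.germ (W x) x (hxW x)) (hgl (some x))).trans
      (TopCat.Presheaf.germ_res_apply F.presheaf _ _ _ _)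

theorem isLocalHom_stalkHom {x : X} (h : f x = y) : IsLocalHom (stalkHom f y h) := by
  subst h
  unfold stalkHom
  rw [TopCat.Presheaf.stalkSpecializes_refl, Category.id_comp]
  infer_instance

/-- Length over the local ring below. -/
theorem length_below [LocallyOfFiniteType f] {δX : X → ℤ} {δY : Y → ℤ} (hδ : Cyc.DeltaCompat f δX δY)
    {x : X} (h : f x = y) (heq : δX x = δY y) (M : Type u) [AddCommGroup M] [Module (X.presheaf.stalk x) M] :
    letI : Module (Y.presheaf.stalk y) M := Module.compHom M (stalkHom f y h)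
    Module.length (Y.presheaf.stalk y) M = Module.length (X.presheaf.stalk x) M * (f.residueDegree x : ℕ∞) := by
  subst h
  letI := (f.stalkMap x).hom.toAlgebra
  have hρ : stalkHom f (f x) rfl = (f.stalkMap x).hom := by
    unfold stalkHom; rw [TopCat.Presheaf.stalkSpecializes_refl, Category.id_comp]
  rw [hρ]
  letI : Module (Y.presheaf.stalk (f x)) M := Module.compHom M (f.stalkMap x).hom
  haveI : IsScalarTower (Y.presheaf.stalk (f x)) (X.presheaf.stalk x) M :=
    IsScalarTower.of_algebraMap_smul fun _ _ => rfl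
  haveI : IsLocalHom (algebraMap (Y.presheaf.stalk (f x)) (X.presheaf.stalk x)) :=
    inferInstanceAs (IsLocalHom (f.stalkMap x).hom)
  rw [IsLocalRing.length_restrictScalars (Y.presheaf.stalk (f x)) (X.presheaf.stalk x) M]
  congr 1
  have hrd : FibDim.rd f x = 0 := by
    have := deltaCompat_eq f hδ x
    omega
  haveI : Module.Finite (ResidueField (Y.presheaf.stalk (f x))) (ResidueField (X.presheaf.stalk x)) := by
    have h0 := finite_residueFieldMap_of_rd_eq_zero f x hrd
    letI := (f.residueFieldMap x).hom.toAlgebra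
    haveI : Module.Finite (Y.residueField (f x)) (X.residueField x) := h0
    exact Module.Finite.of_equiv_equiv (RingEquiv.refl (Y.residueField (f x))) (RingEquiv.refl (X.residueField x))
      (RingHom.ext fun a => by
        obtain ⟨b, rfl⟩ := IsLocalRing.residue_surjective a
        rfl)
  rw [Module.length_eq_rank, ← Module.finrank_eq_rank, Cardinal.toENat_nat]
  refine congrArg Nat.cast ?_
  unfold Scheme.Hom.residueDegree
  letI := (f.residueFieldMap x).hom.toAlgebra
  exact Algebra.finrank_eq_of_equiv_equiv (RingEquiv.refl _) (RingEquiv.refl _) (RingHom.ext fun a => by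
    obtain ⟨b, rfl⟩ := IsLocalRing.residue_surjective a
    rfl)

/-- The cycle of a direct image. -/
theorem map_sheafFun [IsProper f] {δX : X → ℤ} {δY : Y → ℤ} (hX : Cyc.IsSetup X δX) (hδ : Cyc.DeltaCompat f δX δY)
    (k : ℤ) (hF : Coh.IsCoh F) (hdim : ∀ x : X, Nontrivial (F.presheaf.stalk x) → δX x ≤ k)
    (α : AlgebraicCycle X ℤ) (hα : ⇑α = Cyc.sheafFun δX k F) :
    AlgebraicCycle.map f δX δY α y = Cyc.sheafFun δY k ((Coh.push f).obj F) y := by
  classical
  haveI := hX.1
  rw [CycLib.map_apply']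
  by_cases hy : δY y = k
  swap
  · rw [Cyc.sheafFun, if_neg hy]
    refine finsum_mem_eq_zero_of_forall_eq_zero ?_
    rintro x (rfl : f x = y)
    rw [congrFun hα x, Cyc.sheafFun, AlgebraicCycle.mapCoeff]
    split_ifs with h1 h2
    · exact absurd (h2.symm.trans h1) hy
    all_goals simp
  set C : Set X := {x | Nontrivial (F.presheaf.stalk x)} with hCdef
  have hC : IsClosed C := by
    have h := QCoh.isClosed_support_of_isFT hF.1 hF.2
    have e : CohB1.support F = C := Set.ext fun z => not_subsingleton_iff_nontrivial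
    rwa [e] at h
  have hgen : ∀ x, f x = y → x ∈ C → δX x = k ∧ ∀ z ∈ C, z ⤳ x → z = x := fun x hx hxC => by
    have h1 := CycLib.le_of_deltaCompat f hδ x
    have h2 := hdim x hxC
    refine ⟨by rw [hx, hy] at h1; omega, fun z hz hzx => ?_⟩
    by_contra hne
    have h3 := (hX.2.2 z x hzx hne).1
    have h4 := hdim z hz
    rw [hx, hy] at h1
    omega
  obtain ⟨hlf, hlen⟩ := S1916.result X F hF
  choose O hxO hO using fun x : {x // f x = y ∧ x ∈ C} => exists_open_generic hC hlf x.2.2 (hgen x x.2.1 x.2.2).2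
  have hfin : (f.base ⁻¹' {y} ∩ C).Finite := by
    refine IsCompact.finite (((Scheme.Hom.range_fiberι f y) ▸ isCompact_range (f.fiberι y).continuous).inter_right hC) ?_
    refine isDiscrete_iff_forall_exists_isOpen.2 fun x hx => ⟨O ⟨x, hx⟩, (O _).2, ?_⟩
    ext z
    constructor
    · rintro ⟨hz, hz', hzC⟩
      exact (hgen z hz' hzC).2 x hx.2 (hO _ z hz hzC) |>.symm
    · rintro rfl
      exact ⟨hxO _, hx⟩
  let T : Finset X := hfin.toFinset
  have hT : ∀ x, x ∈ T ↔ f x = y ∧ x ∈ C := fun x => hfin.mem_toFinset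
  have hb := bijective_prod f F y f.isClosedMap hC (fun z hz => not_nontrivial_iff_subsingleton.1 hz) T hT
    (fun x => O ⟨x, (hT x).1 x.2⟩) (fun x => hxO _) (fun x z => hO _ z)
    (fun x x' h => Subtype.ext ((hgen x' ((hT x').1 x'.2).1 ((hT x').1 x'.2).2).2 x ((hT x).1 x.2).2 h))
  letI : ∀ x : T, Module (Y.presheaf.stalk y) (F.presheaf.stalk (x : X)) := fun x =>
    Module.compHom _ (stalkHom f y ((hT x).1 x.2).1)
  let e : ((Coh.push f).obj F).presheaf.stalk y →ₗ[Y.presheaf.stalk y] ((x : T) → F.presheaf.stalk (x : X)) :=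
    { toFun := fun m x => stalkProj f F y ((hT x).1 x.2).1 m
      map_add' := fun m m' => funext fun x => map_add _ _ _
      map_smul' := fun a m => funext fun x => stalkProj_smul f F y _ a m }
  rw [Cyc.sheafFun, if_pos hy, (LinearEquiv.ofBijective e hb).length_eq, Module.length_pi_of_fintype,
    toNat_sum _ _ fun x _ => ?_]
  swap
  · rw [length_below f y hδ _ ((hgen x ((hT x).1 x.2).1 ((hT x).1 x.2).2).1.trans hy.symm)]
    exact WithTop.mul_ne_top (hlen x ((hT x).1 x.2).2 (hgen x ((hT x).1 x.2).1 ((hT x).1 x.2).2).2).ne (ENat.coe_ne_top _)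
  push_cast
  rw [finsum_mem_eq_sum_of_inter_support_eq (s := f.base ⁻¹' {y}) (t := T) _ ?_]
  · rw [← Finset.sum_coe_sort]
    refine Finset.sum_congr rfl fun x _ => ?_
    obtain ⟨hxy, hxC⟩ := (hT x).1 x.2
    have hx := (hgen x hxy hxC).1
    rw [length_below f y hδ hxy (hx.trans hy.symm), congrFun hα x, Cyc.sheafFun, if_pos hx, AlgebraicCycle.mapCoeff,
      if_pos (show δX x = δY (f.base x) by rw [hx, hxy, hy]), ENat.toNat_mul, ENat.toNat_coe]
    push_cast
    rfl
  · ext x
    simp only [Set.mem_inter_iff, Function.mem_support]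
    refine ⟨fun ⟨hx, hne⟩ => ⟨(hT x).2 ⟨hx, ?_⟩, hne⟩, fun ⟨hx, hne⟩ => ⟨((hT x).1 hx).1, hne⟩⟩
    by_contra hxC
    haveI : Subsingleton (F.presheaf.stalk x) := not_nontrivial_iff_subsingleton.1 hxC
    refine hne ?_
    rw [congrFun hα x, Cyc.sheafFun, Module.length_eq_zero]
    simp

end Groth.Agent.CycLib.PushSheaf
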